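import Groth.Agent.VolLib.UnifMain
import Groth.Agent.S1647
import Groth.Agent.S9710
import Groth.Agent.RGLib.VAmpleImm
import Groth.Agent.RGLib.PnVeryAmple
import Groth.Agent.SymX.VeryAmpleTwist
import Groth.Agent.ExpDescLib.Core
import Groth.Agent.AmpleVan.ThickPush
import Groth.Agent.Lib.AmpleEmbed
import Groth.Agent.PnPic.Twist
import Groth.Agent.HilbPoly.PnTwist
import Groth.Agent.VarDim.Top
import Groth.Agent.PnCoh.Chow.Pairing
import Mathlib
import Groth.Agent.BigMono.Semiample
import Groth.Agent.BigMono.NefProper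
import Groth.Agent.IntSym.NumEuler
import Groth.Agent.IntSym.CurveMap
import Groth.Agent.S0034

/-! Numerical triviality and field extensions. -/

set_option autoImplicit false
set_option backward.isDefEq.respectTransparency false
set_option backward.isDefEq.respectTransparency.types false
set_option linter.style.haveILetI false
set_option maxHeartbeats 1000000
universe u
open CategoryTheory CategoryTheory.Limits AlgebraicGeometry

namespace Groth.Agent.NumBC
open Groth.Agent.H23.PicMul

/-- On a projective scheme a fixed twist makes every numerically trivial module globally generated. -/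
theorem exists_uniform_gg (k : Type u) [Field k] (X : Scheme.{u}) [X.Over (Spec (CommRingCat.of k))]
    [IsProper (X ↘ Spec (CommRingCat.of k))] {L : X.Modules} (hL : CohB1.IsAmple L) :
    ∃ P : X.Modules, PicF.IsInvertible P ∧
      ∀ N, VolLib.NT k N → Curv2.IsGloballyGenerated (CohB1.tensorMod N P) := by
  haveI := CurveCohLib.isNoetherian_of_proper (k := k) (X := X)
  obtain ⟨n, r, hr, hrk⟩ := AmpleEmbed.exists_closedImmersion (X ↘ Spec (CommRingCat.of k)) hL
  haveI := hr
  haveI : IsProper (CohB1.ProjSpace n k ↘ Spec (CommRingCat.of k)) := PnCoh.Chow.isProper_toSpec n k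
  haveI := CurveCohLib.isNoetherian_of_proper (k := k) (X := CohB1.ProjSpace n k)
  let B := (Scheme.Modules.pullback r).obj (Twist.twistProjSpace n k 1)
  have hB : CohB1.IsAmple B := NormX.isAmple_pullback_affine r (HilbPoly.isAmple_twistProjSpace_one n k)
  obtain ⟨d₀, hd₀⟩ := IntSym.exists_dim_bound k (X := X)
  have hd : topologicalKrullDim X < ((d₀ + 1 : ℕ) : WithBot ℕ∞) :=
    hd₀.trans_lt (by exact_mod_cast Nat.lt_succ_self d₀)
  obtain ⟨m₀, hv⟩ := (VolLib.unif k hB (QCoh.isCoh_structureModule' (X := X))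
    ((topologicalKrullDim_subspace_le X _).trans_lt hd)).van
  let m := m₀ + n
  refine ⟨(Scheme.Modules.pullback r).obj (Twist.twistProjSpace n k (m : ℤ)),
    PicClLib.isInvertible_pullback r (PnPic.isInvertible_twistProjSpace n k _), fun N hN => ?_⟩
  have main : Curv2.IsGloballyGenerated (CohB1.tensorMod N
      ((Scheme.Modules.pullback r).obj (Twist.twistProjSpace n k (m : ℤ)))) := by
    let O' := fun z : ℤ => Twist.twistProjSpace n k z
    have hO' : ∀ z, PicF.IsInvertible (O' z) := fun z => PnPic.isInvertible_twistProjSpace n k z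
    let G := CohB1.tensorMod N ((Scheme.Modules.pullback r).obj (O' (m : ℤ)))
    have hG : PicF.IsInvertible G := InvX.isInvertible_tensorMod hN.1 (PicClLib.isInvertible_pullback r (hO' _))
    have hpow : ∀ j : ℕ, PicF.cl ((Scheme.Modules.pullback r).obj (O' (j : ℤ))) = PicF.cl B ^ j := fun j => by
      obtain ⟨e₁⟩ := HilbPoly.nonempty_pow n k j
      obtain ⟨e₂⟩ := IntNum.pullback_tensorPow r (O' 1) j
      rw [← cl_tensorPow]
      exact cl_eq_iff.2 ⟨(Scheme.Modules.pullback r).mapIso e₁ ≪≫ e₂⟩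
    let F := (Coh.push r).obj G
    have hF : Coh.IsCoh F := QCoh.isCoh_push r (AmpleVan.isCoh_invertible hG)
    have hreg : Curv2.IsMRegular k n F 0 := by
      intro q hq1 hqn
      obtain ⟨j, rfl⟩ := Nat.exists_eq_add_of_le' hq1
      obtain ⟨p⟩ := IntNum.push_tensor r G (O' (0 - ((j + 1 : ℕ) : ℤ)))
      refine QCoh.subsingleton_HH_of_iso p _ ?_
      obtain ⟨e⟩ : Nonempty ((AmpleVan.tw (VolLib.tP B N (m - (j + 1)))).obj (Coh.structureModule X) ≅
          CohB1.tensorMod G ((Scheme.Modules.pullback r).obj (O' (0 - ((j + 1 : ℕ) : ℤ))))) := cl_eq_iff.1 (by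
        obtain ⟨a⟩ := HilbPoly.nonempty_add n k (m : ℤ) (0 - ((j + 1 : ℕ) : ℤ))
        have h1 := cl_eq_iff.2 ⟨(IntNum.pullTensor r (O' (m : ℤ)) (O' (0 - ((j + 1 : ℕ) : ℤ)))).symm ≪≫
          (Scheme.Modules.pullback r).mapIso a⟩
        rw [show (m : ℤ) + (0 - ((j + 1 : ℕ) : ℤ)) = ((m - (j + 1) : ℕ) : ℤ) by omega, hpow, cl_tensor] at h1
        show PicF.cl (CohB1.tensorMod _ (CohB1.tensorMod N _)) = PicF.cl (CohB1.tensorMod (CohB1.tensorMod N _) _)
        rw [cl_tensor, cl_tensor, cl_tensor, cl_tensor, mul_assoc, h1, ← H23.PicMul.one_def, one_mul, cl_tensorPow])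
      have hsub : Subsingleton (Coh.HH X (CohB1.tensorMod G
          ((Scheme.Modules.pullback r).obj (O' (0 - ((j + 1 : ℕ) : ℤ))))) (j + 1)) :=
        QCoh.subsingleton_HH_of_iso e _ (hv N hN _ (by omega) j)
      obtain ⟨l⟩ := QCoh.HH_push_linear r (Coh.toGlobal (CohB1.ProjSpace n k ↘ Spec (CommRingCat.of k)))
        (Coh.toGlobal (X ↘ Spec (CommRingCat.of k))) (fun b => by rw [← hrk]; rfl)
        (KFlatLib.isQCoh_tensor (ProjUPX.isQCoh_of_isInvertible hG)
          (ProjUPX.isQCoh_of_isInvertible (PicClLib.isInvertible_pullback r (hO' (0 - ((j + 1 : ℕ) : ℤ)))))) (j + 1)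
      exact @Equiv.subsingleton _ _ l.symm.toEquiv hsub
    have hgg : Curv2.IsGloballyGenerated G := by
      obtain ⟨ι, p, hp⟩ := ExpDescLib.isGloballyGenerated_pullback r (S1647.result k n F hF 0 hreg)
      obtain ⟨e0⟩ : Nonempty (O' 0 ≅ Coh.structureModule (CohB1.ProjSpace n k)) := cl_eq_iff.1 (by
        obtain ⟨a⟩ := HilbPoly.nonempty_add n k 0 0
        have h1 := cl_eq_iff.2 ⟨a⟩
        rw [add_zero, cl_tensor] at h1
        rw [← H23.PicMul.one_def]
        exact (isUnit_cl (hO' 0)).mul_left_cancel (h1.trans (mul_one _).symm))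
      haveI := AmpleVan.isIso_counit r (ProjUPX.isQCoh_of_isInvertible hG)
      haveI := hp
      exact ⟨ι, p ≫ ((Scheme.Modules.pullback r).mapIso
        (PicGrp.tensorModIso (Iso.refl F) e0 ≪≫ AmpleVan.twUnit.app F) ≪≫
          asIso ((Scheme.Modules.pullbackPushforwardAdjunction r).counit.app G)).hom, inferInstance⟩
    exact hgg
  exact main

/-- Globally generated invertible modules have non-negative degree on curves. -/
theorem sym_nonneg_of_gg (k : Type u) [Field k] {X : Scheme.{u}} [X.Over (Spec (CommRingCat.of k))]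
    [IsProper (X ↘ Spec (CommRingCat.of k))] {G : X.Modules} (hG : PicF.IsInvertible G)
    (hgg : Curv2.IsGloballyGenerated G)
    {W : Scheme.{u}} (i : W ⟶ X) [IsClosedImmersion i] [IsIntegral W] (hW : topologicalKrullDim W = 1) :
    0 ≤ IntSym.sym k [G] ((Coh.push i).obj (Coh.structureModule W)) := by
  letI : W.Over (Spec (CommRingCat.of k)) := ⟨i ≫ (X ↘ Spec (CommRingCat.of k))⟩
  haveI : IsProper (W ↘ Spec (CommRingCat.of k)) :=
    show IsProper (i ≫ (X ↘ Spec (CommRingCat.of k))) from inferInstance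
  haveI := CurveCohLib.isNoetherian_of_proper (k := k) (X := W)
  have hG' := PicClLib.isInvertible_pullback i hG
  obtain ⟨ι, p, hp⟩ := ExpDescLib.isGloballyGenerated_pullback i hgg
  obtain ⟨e⟩ : Nonempty ((Scheme.Modules.pullback i).obj G ≅
      CohB1.tensorPow ((Scheme.Modules.pullback i).obj G) 1) := cl_eq_iff.1 (by rw [cl_tensorPow, pow_one])
  haveI := hp
  have h := BigMono.nefC_of_semiample k hG' Nat.one_pos ⟨ι, p ≫ e.hom, inferInstance⟩ W (𝟙 W) hW
  refine le_of_le_of_eq h ?_
  have e1 := (IntSym.sym_iso k (List.forall_mem_singleton.2 hG')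
    ((Scheme.Modules.pushforwardId W).app (Coh.structureModule W)))
  refine e1.trans ?_
  exact NakaiMo.mult_push k i rfl hG QCoh.isCoh_structureModule' 1

theorem sym_eq_zero_of_twists (k : Type u) [Field k] {X : Scheme.{u}} [X.Over (Spec (CommRingCat.of k))]
    [IsProper (X ↘ Spec (CommRingCat.of k))] {L L' P : X.Modules} (hL : PicF.IsInvertible L)
    (hL' : PicF.IsInvertible L') (hP : PicF.IsInvertible P) (hLL' : PicF.cl L * PicF.cl L' = 1)
    (hgg : ∀ j : ℕ, Curv2.IsGloballyGenerated (CohB1.tensorMod (CohB1.tensorPow L j) P) ∧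
      Curv2.IsGloballyGenerated (CohB1.tensorMod (CohB1.tensorPow L' j) P))
    {W : Scheme.{u}} (i : W ⟶ X) [IsClosedImmersion i] [IsIntegral W] (hW : topologicalKrullDim W = 1) :
    IntSym.sym k [L] ((Coh.push i).obj (Coh.structureModule W)) = 0 := by
  haveI := CurveCohLib.isNoetherian_of_proper (k := k) (X := X)
  let F := (Coh.push i).obj (Coh.structureModule W)
  have hF : Coh.IsCoh F := QCoh.isCoh_push_structure i
  have hd := IntSym.dim_push_le i (QCoh.isQCoh_structureModule (X := W)) (d := ((1 : ℕ) : WithBot ℕ∞))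
    (by rw [Nat.cast_one]; exact hW.le)
  have hl : IntSym.Inv ([] : List X.Modules) := List.forall_mem_nil _
  obtain ⟨e⟩ : Nonempty (CohB1.tensorMod L L' ≅ Coh.structureModule X) := cl_eq_iff.1 (by
    rw [cl_tensor, hLL', ← H23.PicMul.one_def])
  have h0 : IntSym.sym k [L] F + IntSym.sym k [L'] F = 0 := by
    rw [← IntSym.sym_tensor_head k hL hL' hl hF hd, IntSym.sym_congr_head k e hl,
      IntSym.sym_structure_head k hl]
  have hb : ∀ j : ℕ, 0 ≤ (j : ℤ) * IntSym.sym k [L] F + IntSym.sym k [P] F ∧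
      0 ≤ (j : ℤ) * IntSym.sym k [L'] F + IntSym.sym k [P] F := fun j => by
    refine ⟨?_, ?_⟩
    · have := sym_nonneg_of_gg k (InvX.isInvertible_tensorMod (InvX.isInvertible_tensorPow hL j) hP) (hgg j).1 i hW
      rwa [IntSym.sym_tensor_head k (InvX.isInvertible_tensorPow hL j) hP hl hF hd,
        IntSym.sym_tensorPow_head k hL hl hF hd] at this
    · have := sym_nonneg_of_gg k (InvX.isInvertible_tensorMod (InvX.isInvertible_tensorPow hL' j) hP) (hgg j).2 i hW
      rwa [IntSym.sym_tensor_head k (InvX.isInvertible_tensorPow hL' j) hP hl hF hd,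
        IntSym.sym_tensorPow_head k hL' hl hF hd] at this
  rcases lt_trichotomy (IntSym.sym k [L] F) 0 with hD | hD | hD
  · have := (hb ((IntSym.sym k [P] F).toNat + 1)).1
    push_cast at this
    nlinarith [Int.self_le_toNat (IntSym.sym k [P] F)]
  · exact hD
  · have := (hb ((IntSym.sym k [P] F).toNat + 1)).2
    push_cast at this
    nlinarith [Int.self_le_toNat (IntSym.sym k [P] F)]

variable (k : Type u) [Field k] (E : Type u) [Field E] [Algebra k E]

local notation "b" => Spec.map (CommRingCat.ofHom (algebraMap k E))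

theorem euler_ext {X : Scheme.{u}} [X.Over (Spec (CommRingCat.of k))] [IsProper (X ↘ Spec (CommRingCat.of k))]
    (M : X.Modules) (hM : Coh.IsQCoh M) :
    @Curv2.euler E _ (pullback (X ↘ Spec (CommRingCat.of k)) b) ⟨pullback.snd _ _⟩
        ((Scheme.Modules.pullback (pullback.fst (X ↘ Spec (CommRingCat.of k)) b)).obj M) =
      Curv2.euler k X M := by
  haveI := CurveCohLib.isNoetherian_of_proper (k := k) (X := X)
  letI : (pullback (X ↘ Spec (CommRingCat.of k)) b).Over (Spec (CommRingCat.of E)) := ⟨pullback.snd _ _⟩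
  haveI := hM
  refine finsum_congr fun i => ?_
  obtain ⟨e⟩ := S0034.result k E X _ (pullback.fst (X ↘ Spec (CommRingCat.of k)) b)
    (IsPullback.of_hasPullback _ _) M i
  rw [← e.finrank_eq, Module.finrank_baseChange]

theorem sym_ext {X : Scheme.{u}} [X.Over (Spec (CommRingCat.of k))] [IsProper (X ↘ Spec (CommRingCat.of k))]
    (L F : X.Modules) (hL : PicF.IsInvertible L) (hF : Coh.IsQCoh F) :
    @IntSym.sym (pullback (X ↘ Spec (CommRingCat.of k)) b) E _ ⟨pullback.snd _ _⟩
        [(Scheme.Modules.pullback (pullback.fst (X ↘ Spec (CommRingCat.of k)) b)).obj L]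
        ((Scheme.Modules.pullback (pullback.fst (X ↘ Spec (CommRingCat.of k)) b)).obj F) =
      IntSym.sym k [L] F := by
  letI : (pullback (X ↘ Spec (CommRingCat.of k)) b).Over (Spec (CommRingCat.of E)) := ⟨pullback.snd _ _⟩
  haveI : IsProper (pullback (X ↘ Spec (CommRingCat.of k)) b ↘ Spec (CommRingCat.of E)) :=
    inferInstanceAs (IsProper (pullback.snd _ _))
  have h1 := euler_ext k E (CohB1.tensorMod F L)
    (KFlatLib.isQCoh_tensor hF (ProjUPX.isQCoh_of_isInvertible hL))
  have h2 := euler_ext k E F hF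
  obtain ⟨a⟩ := H23.PicMul.pull (pullback.fst (X ↘ Spec (CommRingCat.of k)) b) F L
  have h3 := CurveCohLib.euler_congr (k := E) a
  rw [IntSym.sym_singleton, IntSym.sym_singleton]
  exact congrArg₂ (fun x y : ℤ => x - y) (h3.symm.trans h1) h2

theorem of_baseChange {X : Scheme.{u}} [X.Over (Spec (CommRingCat.of k))] [IsProper (X ↘ Spec (CommRingCat.of k))]
    (L : X.Modules) (hL : PicF.IsInvertible L)
    (h : @Pic13.IsNumEquivZero E _ (pullback (X ↘ Spec (CommRingCat.of k)) b) ⟨pullback.snd _ _⟩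
      ((Scheme.Modules.pullback (pullback.fst (X ↘ Spec (CommRingCat.of k)) b)).obj L)) :
    Pic13.IsNumEquivZero k X L := by
  haveI := CurveCohLib.isNoetherian_of_proper (k := k) (X := X)
  letI : (pullback (X ↘ Spec (CommRingCat.of k)) b).Over (Spec (CommRingCat.of E)) := ⟨pullback.snd _ _⟩
  haveI : IsProper (pullback (X ↘ Spec (CommRingCat.of k)) b ↘ Spec (CommRingCat.of E)) :=
    inferInstanceAs (IsProper (pullback.snd _ _))
  intro Z i hi hZI hZ
  haveI := hi; haveI := hZI
  have hF : Coh.IsCoh ((Coh.push i).obj (Coh.structureModule Z)) := QCoh.isCoh_push_structure i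
  rw [IntSym.curveDeg_eq k i hZ hL]
  exact (sym_ext k E L _ hL hF.1).symm.trans
    (IntSym.sym_numTriv_eq_zero E (PicClLib.isInvertible_pullback _ hL) h
      ⟨QCoh.isQCoh_pullback _ hF.1, QCoh.isFT_pullback _ hF.1 hF.2⟩)

theorem baseChange {X : Scheme.{u}} [X.Over (Spec (CommRingCat.of k))] [IsProper (X ↘ Spec (CommRingCat.of k))]
    (L : X.Modules) (hL : PicF.IsInvertible L) (h : Pic13.IsNumEquivZero k X L) :
    @Pic13.IsNumEquivZero E _ (pullback (X ↘ Spec (CommRingCat.of k)) b) ⟨pullback.snd _ _⟩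
      ((Scheme.Modules.pullback (pullback.fst (X ↘ Spec (CommRingCat.of k)) b)).obj L) := by
  let p := X ↘ Spec (CommRingCat.of k)
  haveI := CurveCohLib.isNoetherian_of_proper (k := k) (X := X)
  obtain ⟨n, X', π, j, -, hj, hjqc, hjr, hπ, hs, -, -, -⟩ :=
    ChowX.chow_dense p (TopologicalSpace.NoetherianSpace.finite_irreducibleComponents (α := X))
  haveI := hπ; haveI := hs
  letI : X'.Over (Spec (CommRingCat.of k)) := ⟨π ≫ p⟩
  haveI : IsProper (X' ↘ Spec (CommRingCat.of k)) := show IsProper (π ≫ p) from inferInstance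
  let P₀ := CohB1.ProjSpaceOver.toBase n (Spec (CommRingCat.of k))
  haveI : IsProper (CohB1.ProjSpace.toSpec n (ULift.{u} ℤ)) := PnCoh.Chow.isProper_toSpec n _
  haveI : IsProper P₀ := MorphismProperty.pullback_snd _ _ inferInstance
  haveI : IsProper (j ≫ P₀) := by rw [hjr]; infer_instance
  have hA : CohB1.IsAmple ((Scheme.Modules.pullback j).obj (Twist.twistOver n (Spec (CommRingCat.of k)) 1)) :=
    (AmpleX.isRelAmple_iff_isAmple (j ≫ P₀) _).1
      (AmpleX.isRelAmple_pullback_embedding P₀ j j.isEmbedding (ChowX.isRelAmple_twistOver n _))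
  obtain ⟨P, hP, hgg⟩ := exists_uniform_gg k X' hA
  have hN : VolLib.NT k ((Scheme.Modules.pullback π).obj L) := IntSym.nt_pullback k π rfl hL h
  obtain ⟨N', hN', hNN'⟩ := hN.exists_inv
  let f := pullback.fst p b
  letI : (pullback p b).Over (Spec (CommRingCat.of E)) := ⟨pullback.snd _ _⟩
  haveI : IsProper (pullback p b ↘ Spec (CommRingCat.of E)) := inferInstanceAs (IsProper (pullback.snd _ _))
  let V := pullback π f
  letI : V.Over (Spec (CommRingCat.of E)) := ⟨pullback.snd π f ≫ pullback.snd p b⟩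
  haveI : IsProper (V ↘ Spec (CommRingCat.of E)) :=
    show IsProper (pullback.snd π f ≫ pullback.snd p b) from inferInstance
  haveI : Surjective (pullback.snd π f) := MorphismProperty.pullback_snd _ _ inferInstance
  let g := pullback.fst π f
  intro W i hi hWI hW
  haveI := hi; haveI := hWI
  have hfL := PicClLib.isInvertible_pullback f hL
  rw [IntSym.curveDeg_eq E i hW hfL]
  obtain ⟨Z, z, hz, hZI, hZ, hdeg, ⟨e⟩⟩ := IntSym.exists_curve_over E (pullback.snd π f) rfl i hW
  haveI := hz; haveI := hZI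
  obtain ⟨h1, -, -⟩ := IntSym.sym_pullback_curve E (pullback.snd π f) rfl hfL z hZ
  rw [IntSym.sym_iso E (List.forall_mem_singleton.2 hfL) e] at h1
  suffices h2 : IntSym.sym E [(Scheme.Modules.pullback (pullback.snd π f)).obj ((Scheme.Modules.pullback f).obj L)]
      ((Coh.push z).obj (Coh.structureModule Z)) = 0 by
    rw [h2] at h1
    rcases mul_eq_zero.1 h1.symm with h3 | h3
    · exact absurd h3 (by exact_mod_cast hdeg.ne')
    · exact h3
  obtain e2 : (Scheme.Modules.pullback (pullback.snd π f)).obj ((Scheme.Modules.pullback f).obj L) ≅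
      (Scheme.Modules.pullback g).obj ((Scheme.Modules.pullback π).obj L) :=
    (Scheme.Modules.pullbackComp _ _).app L ≪≫
      (Scheme.Modules.pullbackCongr (pullback.condition (f := π) (g := f)).symm).app L ≪≫
      ((Scheme.Modules.pullbackComp g π).app L).symm
  rw [IntSym.sym_congr_head E e2 (List.forall_mem_nil _)]
  have hgt : ∀ (N : X'.Modules) (l : ℕ), VolLib.NT k N → Curv2.IsGloballyGenerated
      (CohB1.tensorMod (CohB1.tensorPow ((Scheme.Modules.pullback g).obj N) l) ((Scheme.Modules.pullback g).obj P)) := by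
    intro N l hN₁
    obtain ⟨a⟩ := H23.PicMul.pull g (CohB1.tensorPow N l) P
    obtain ⟨c⟩ := IntNum.pullback_tensorPow g N l
    obtain ⟨ι, q, hq⟩ := ExpDescLib.isGloballyGenerated_pullback g (hgg _ (hN₁.pow l))
    haveI := hq
    exact ⟨ι, q ≫ (a ≪≫ PicGrp.tensorModIso c (Iso.refl _)).hom, inferInstance⟩
  refine sym_eq_zero_of_twists E (PicClLib.isInvertible_pullback g hN.1)
    (PicClLib.isInvertible_pullback g hN'.1) (PicClLib.isInvertible_pullback g hP) ?_
    (fun l => ⟨hgt _ l hN, hgt _ l hN'⟩) z hZ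
  obtain ⟨a⟩ := H23.PicMul.pull g ((Scheme.Modules.pullback π).obj L) N'
  obtain ⟨e0⟩ : Nonempty (CohB1.tensorMod ((Scheme.Modules.pullback π).obj L) N' ≅ Coh.structureModule X') :=
    cl_eq_iff.1 (by rw [cl_tensor, hNN', ← H23.PicMul.one_def])
  obtain ⟨e1⟩ := PicClLib.nonempty_pullback_structureModule g
  rw [← cl_tensor, H23.PicMul.one_def]
  exact cl_eq_iff.2 ⟨a.symm ≪≫ (Scheme.Modules.pullback g).mapIso e0 ≪≫ e1⟩

end Groth.Agent.NumBC
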